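import Mathlib
import Cfsg.Agent.Lib.CosetTable.Check

/-! Generated certificate data for the coset table `SuzSimpleMax1`. -/

namespace Cfsg.Agent.Lib.CosetTable.SuzSimpleMax1

open Cfsg.Agent.Lib.CosetTable

set_option maxRecDepth 10000

def facts : T := .leaf 0x600000400000700000000002700000400002600000400006600000c00002700000800004300000800004400000400002400000400002300000400002200000c00006600000800004600000c00006300000800006200000400004100000000002600000000000500000000000400000000000300000000000200000000000100000000000000000000000e00000000000d00000000000c00000000000b00000000000a000000000009000000000008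

def defs : T := .leaf 0x42000000000021000000000006000000000000

def nodeT : ℕ := 0x0

def parT : ℕ := 0x0

def perm0 : ℕ := 0x0

def eid0 : ℕ := 0x7

def perm1 : ℕ := 0x0

def eid1 : ℕ := 0x8

def perm2 : ℕ := 0x0

def eid2 : ℕ := 0x9

def perm3 : ℕ := 0x0

def eid3 : ℕ := 0xa

def perm4 : ℕ := 0x0

def eid4 : ℕ := 0xb

def perm5 : ℕ := 0x0

def eid5 : ℕ := 0xc

def perm6 : ℕ := 0x0

def eid6 : ℕ := 0x1d

def rulesT : RT := .node (.node (.node (.node (.node (.leaf 0 [8] 66 0) (.leaf 7 [6, 6] 27 0)) (.node (.leaf 6 [2, 6, 2] 17 0) (.leaf 7 [] 0 0))) (.node (.node (.leaf 4 [12] 70 0) (.leaf 7 [] 0 0)) (.node (.leaf 4 [1, 4, 1] 10 0) (.leaf 7 [] 0 0)))) (.node (.node (.node (.leaf 2 [10] 68 0) (.leaf 7 [] 0 0)) (.node (.leaf 3 [6, 3, 6] 21 1) (.leaf 7 [] 0 0))) (.node (.node (.leaf 3 [2, 1, 6, 14, 6, 1, 2] 72 5) (.leaf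 7 [] 0 0)) (.node (.leaf 7 [2, 3, 4, 1, 2, 3, 2, 3, 1, 2, 3, 2, 3, 1, 2, 3, 2, 3, 1, 2, 3, 2, 3, 1, 2, 3, 2, 3, 4, 1, 2, 3, 2, 3, 1, 2, 3, 2, 3, 1, 2, 3, 2, 3, 1, 2, 3, 2, 3, 1, 2, 3, 2, 3, 4, 1, 2, 3, 2, 3, 1, 2, 3, 2, 3, 1, 2, 3, 2, 3, 1, 2, 3, 2, 3, 1, 2, 3] 32 23) (.leaf 7 [] 0 0))))) (.node (.node (.node (.node (.leaf 1 [9] 67 0) (.leaf 7 [] 0 0)) (.node (.leaf 2 [6, 2, 6] 17 1) (.leaf 7 [] 0 0))) (.node (.node (.leaf 5 [13] 71 0) (.leaf 7 [] 0 0)) (.node (.leaf 3 [1, 3, 1] 9 0) (.leaf 7 [] 0 0)))) (.node (.node (.node (.leaf 3 [11] 69 0) (.leaf 7 [] 0 0)) (.node (.leaf 4 [6, 4, 6] 24 1) (.leaf 7 [] 0 0))) (.node (.node (.leaf 6 [1, 6, 1, 6, 1] 12 0) (.leaf 7 [] 0 0)) (.node (.leaf 6 [6] 0 0) (.leaf 7 [] 0 0)))))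

def relsL : List (List ℕ) := [[0, 0],
  [0, 1, 0, 1, 0, 1, 0, 1, 0, 1],
  [0, 2, 0, 2],
  [0, 3, 0, 3],
  [0, 4, 0, 4],
  [0, 5, 0, 5],
  [0, 6, 0, 6],
  [1, 1],
  [1, 2, 1, 2, 1, 2],
  [1, 3, 1, 3],
  [1, 4, 1, 4],
  [1, 5, 1, 5, 1, 5],
  [1, 6, 1, 6, 1, 6],
  [2, 2],
  [2, 3, 2, 3, 2, 3, 2, 3, 2, 3, 2, 3, 2, 3, 2, 3],
  [2, 4, 2, 4],
  [2, 5, 2, 5],
  [2, 6, 2, 6],
  [3, 3],
  [3, 4, 3, 4, 3, 4],
  [3, 5, 3, 5],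
  [3, 6, 3, 6],
  [4, 4],
  [4, 5, 4, 5],
  [4, 6, 4, 6],
  [5, 5],
  [5, 6, 5, 6, 5, 6, 5, 6],
  [6, 6],
  [0, 3, 2, 3, 2, 3, 2, 3, 2],
  [0, 6, 5, 6, 5],
  [0, 1, 2, 5, 0, 1, 2, 5, 0, 1, 2, 5, 0, 1, 2, 5, 0, 1, 2, 5],
  [1, 5, 6, 1, 5, 6, 1, 5, 6, 1, 5, 6, 1, 5, 6],
  [1, 2, 3, 2, 3, 1, 2, 3, 2, 3, 1, 2, 3, 2, 3, 1, 2, 3, 2, 3, 1, 2, 3, 2, 3, 4, 1, 2, 3, 2, 3, 1, 2, 3, 2, 3, 1, 2, 3, 2, 3, 1, 2, 3, 2, 3, 1, 2, 3, 2, 3, 4, 1, 2, 3, 2, 3, 1, 2, 3, 2, 3, 1, 2, 3, 2, 3, 1, 2, 3, 2, 3, 1, 2, 3, 2, 3, 4]]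

def subsL : List (List ℕ) := [[0],
  [1],
  [2],
  [3],
  [4],
  [5],
  [6, 1, 2, 3, 2, 1, 6]]

def cert : Cert where
  k := 7
  rels := relsL
  subs := subsL
  rules := rulesT
  facts := facts
  defs := defs

def tab : Table where
  n := 1
  k := 7
  node := nodeT
  perms := [perm0, perm1, perm2, perm3, perm4, perm5, perm6]
  eids := [eid0, eid1, eid2, eid3, eid4, eid5, eid6]
  par := parT

end Cfsg.Agent.Lib.CosetTable.SuzSimpleMax1
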