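import Cfsg.Agent.Lib.CosetTable.Sound
import Cfsg.Agent.Lib.CosetTable.SuzSimpleMax1.Data

/-! Generated certificate data for the coset table `SuzSimpleMax1`. -/

namespace Cfsg.Agent.Lib.CosetTable.SuzSimpleMax1

open Cfsg.Agent.Lib.CosetTable

def streams0 : List (ℕ × ℕ) := [(30, 0x3800001a00000200001100003700000100001300003500001a00000200001200003000003200000200001100002400003100000200001100002900002700001d00002f00001f00002100001e00001c00002900002700002900002700001d00002f00001f00002100001e00001c00002900002700002900002700001d00002d00002f00001f00002100001e00001c00002900002700002900002700001d00002f00001f00002100001e00001c00002900002700002900002700001d00002f00001f00002100001e00001c00002b00002900002700002900002700001d00002f00001f00002100001e00001c00002900002700002900002700001d00002f00001f00002100001e00001c00002900002700002900002700001d00002d00002f00001f00004e00001000001c00002900001d00000300000f00001c00002b00001d00000300000e00001a00001600001b00000300000d00001a00001400001b00000300000c00001a00001200001b00000300000b00001e00002300001f00000300000a00001c00001a00001000001b00001d00000500000900001e00001c00001a00000c00001b00001d00001f00000700000800000000000000000000000000000000000000000a000001000007000008000001000006000006000001000005000004000001000004000002000001000003000000000001000002000000000001000000000001000000000001000000000001000000000001000000000001000000000001)]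

theorem run0 : cert.goStreams streams0 0 = true := by decide +kernel

theorem part1 (h : cert.Upto 0) : cert.Upto 30 :=
  (h).step (b := 30) run0 rfl

end Cfsg.Agent.Lib.CosetTable.SuzSimpleMax1
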